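import Mathlib

/-! Symmetric numerical semigroups; power-series subalgebras and their value semigroups. -/

set_option autoImplicit false
universe u

namespace Groth.Agent.Semigroup

/-- In a symmetric semigroup of multiplicity `e > 2`, elements `≥ c` decompose or exceed `c - 1 + e`. -/
theorem decompose (Γ : AddSubmonoid ℕ) (c : ℕ) (hc : ∀ n : ℕ, c ≤ n → n ∈ Γ) (hc0 : c ≠ 0)
    (hc1 : c - 1 ∉ Γ) (hsymm : ∀ x : ℕ, x < c → (x ∉ Γ ↔ c - 1 - x ∈ Γ)) (e : ℕ) (he : e ∈ Γ)
    (he0 : e ≠ 0) (hemin : ∀ γ : ℕ, γ ∈ Γ → γ ≠ 0 → e ≤ γ) (he2 : 2 < e) (n : ℕ) (hn : c ≤ n) :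
    ∃ γ, γ ∈ Γ ∧ 0 < γ ∧ γ < n ∧ n - γ ∈ Γ := by
  have hec : e ≤ c := hemin c (hc c le_rfl) hc0
  by_contra hno
  push_neg at hno
  have hne : n < c + e := by
    by_contra hge
    exact hno e he (by omega) (by omega) (hc _ (by omega))
  obtain ⟨j, rfl⟩ : ∃ j, n = c - 1 + j := ⟨n - (c - 1), by omega⟩
  have hgap : ∀ γ, γ ∈ Γ → j < γ → γ < c - 1 + j → γ - j ∈ Γ := by
    intro γ hγ h1 h2
    have h := (hsymm (c - 1 + j - γ) (by omega)).mp (hno γ hγ (by omega) h2)
    rwa [show c - 1 - (c - 1 + j - γ) = γ - j by omega] at h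
  rcases lt_or_ge j e with hje | hje
  · rcases eq_or_lt_of_le (le_trans hec hn) with heq | hlt
    · have h1 : (1 : ℕ) ∉ Γ := fun h => by have := hemin 1 h one_ne_zero; omega
      have h2 := (hsymm 1 (by omega)).mp h1
      have h3 : c - 1 - 1 = 0 := by
        by_contra h4
        have := hemin _ h2 h4
        omega
      omega
    · have := hemin _ (hgap e he hje hlt) (by omega)
      omega
  · have hj : j = e := by omega
    subst hj
    have hdiv : ∀ γ, γ ∈ Γ → γ < c → j ∣ γ := by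
      intro γ
      induction γ using Nat.strong_induction_on with
      | _ γ ih =>
        intro hγ hγc
        rcases Nat.eq_zero_or_pos γ with rfl | hpos
        · exact dvd_zero _
        rcases eq_or_lt_of_le (hemin γ hγ hpos.ne') with rfl | hlt
        · exact dvd_rfl
        · obtain ⟨q, hq⟩ := ih (γ - j) (by omega) (hgap γ hγ hlt (by omega)) (by omega)
          exact ⟨q + 1, by rw [mul_add, mul_one, ← hq]; omega⟩
    have h1 : (1 : ℕ) ∉ Γ := fun h => by have := hemin 1 h one_ne_zero; omega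
    have h2 : (2 : ℕ) ∉ Γ := fun h => by have := hemin 2 h two_ne_zero; omega
    have h3 := hdiv _ ((hsymm 1 (by omega)).mp h1) (by omega)
    have h4 := hdiv _ ((hsymm 2 (by omega)).mp h2) (by omega)
    have h5 := Nat.dvd_sub h3 h4
    rw [show (c - 1 - 1) - (c - 1 - 2) = 1 by omega] at h5
    have := Nat.le_of_dvd one_pos h5
    omega

open PowerSeries in
/-- In a closed subalgebra with conductor `c`, every series of order `≥ c` lies in it. -/
theorem mem_of_le_order {k : Type u} [Field k] (A : Subalgebra k (PowerSeries k))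
    (hcl : ∀ f : PowerSeries k, (∀ n : ℕ, ∃ g ∈ A, (n : ℕ∞) ≤ PowerSeries.order (f - g)) → f ∈ A)
    (Γ : Set ℕ) (hΓ : ∀ n : ℕ, n ∈ Γ ↔ ∃ f ∈ A, PowerSeries.order f = n) (c : ℕ)
    (hc : ∀ n : ℕ, c ≤ n → n ∈ Γ) (f : PowerSeries k) (hf : (c : ℕ∞) ≤ f.order) : f ∈ A := by
  refine hcl f fun n => ?_
  induction n with
  | zero => exact ⟨0, A.zero_mem, by simp⟩
  | succ n ih =>
    obtain ⟨g, hg, hgn⟩ := ih
    rcases lt_or_ge n c with hn | hn
    · refine ⟨0, A.zero_mem, le_trans (b := (c : ℕ∞)) ?_ (by simpa using hf)⟩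
      exact_mod_cast (hn : n + 1 ≤ c)
    obtain ⟨h, hh, hho⟩ := (hΓ n).mp (hc n hn)
    have h0 : coeff n h ≠ 0 := by
      obtain ⟨h1, -⟩ := PowerSeries.order_eq_nat.mp hho
      exact h1
    refine ⟨g + (coeff n (f - g) / coeff n h) • h, A.add_mem hg (A.smul_mem hh _),
      PowerSeries.nat_le_order _ _ fun i hi => ?_⟩
    rw [← sub_sub, map_sub, map_smul, smul_eq_mul]
    rcases Nat.lt_succ_iff_lt_or_eq.mp hi with hi' | rfl
    · have e1 : coeff i (f - g) = 0 := PowerSeries.coeff_of_lt_order i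
        (lt_of_lt_of_le (by exact_mod_cast hi') hgn)
      have e2 : coeff i h = 0 := PowerSeries.coeff_of_lt_order i (by rw [hho]; exact_mod_cast hi')
      rw [e1, e2]; simp
    · rw [div_mul_cancel₀ _ h0, sub_self]

end Groth.Agent.Semigroup
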